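import Mathlib
import Cfsg.Agent.H697.Alm.Defs
import Cfsg.Agent.H717.Dickson
import Cfsg.Agent.H76.PermFour
import Cfsg.Agent.Lib.ComponentSolvable

/-!
# S4790, T12: dimensions two and four over the prime field (helper930)
-/

set_option autoImplicit false
set_option linter.unusedSectionVars false

namespace Cfsg.Agent.H930.Alm

open Cfsg Cfsg.Agent.H697.Alm Module

universe u v w

section A

variable {D E : Type u} [Group D] [Finite D] [AddCommGroup E] [Finite E] [Nontrivial E] [DistribMulAction D E]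
  [FaithfulSMul D E] {F : Type u} [Field F] [Finite F] [Module F E]

/-- every element of a field with `p` elements is a natural number -/
theorem exists_nat {p : ℕ} (hp : p.Prime) (hF : Nat.card F = p) (c : F) : ∃ n : ℕ, c = n := by
  have := Fintype.ofFinite F
  have := Fact.mk hp
  rw [Nat.card_eq_fintype_card] at hF
  obtain ⟨e⟩ : Nonempty (ZMod p ≃+* F) := ⟨ZMod.ringEquivOfPrime F hp hF⟩
  refine ⟨(e.symm c).val, ?_⟩
  have h1 : e (((e.symm c).val : ℕ) : ZMod p) = ((e.symm c).val : F) := map_natCast e _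
  rw [← h1, ZMod.natCast_zmod_val, RingEquiv.apply_symm_apply]

theorem lin_of_prime {p : ℕ} (hp : p.Prime) (hF : Nat.card F = p) (d : D) (c : F) (e : E) :
    d • (c • e) = c • (d • e) := by
  obtain ⟨n, rfl⟩ := exists_nat hp hF c
  rw [Nat.cast_smul_eq_nsmul, Nat.cast_smul_eq_nsmul]
  exact map_nsmul (DistribSMul.toAddMonoidHom E d) n e

/-- the number of orbits times the order -/
theorem card_le_orb : Nat.card E ≤ orb D E * Nat.card D + 1 := by
  classical
  have := Fintype.ofFinite D
  have := Fintype.ofFinite E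
  have hfin : Finite (MulAction.orbitRel.Quotient D E) := Quotient.finite _
  have := Fintype.ofFinite (MulAction.orbitRel.Quotient D E)
  let π : E → MulAction.orbitRel.Quotient D E := fun e => Quotient.mk'' e
  have hfib : ∀ q : MulAction.orbitRel.Quotient D E, (Finset.univ.filter fun e => π e = q).card ≤ Nat.card D := by
    intro q
    obtain ⟨x, rfl⟩ := Quotient.mk''_surjective q
    have h1 : (Finset.univ.filter fun e => π e = Quotient.mk'' x) ⊆ Finset.univ.image fun d : D => d • x := by
      intro e he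
      rw [Finset.mem_filter] at he
      have h2 : e ∈ MulAction.orbit D x := MulAction.orbitRel_apply.1 (Quotient.exact he.2)
      obtain ⟨d, hd⟩ := h2
      rw [Finset.mem_image]
      exact ⟨d, Finset.mem_univ _, hd⟩
    refine (Finset.card_le_card h1).trans (Finset.card_image_le.trans ?_)
    rw [Finset.card_univ, Nat.card_eq_fintype_card]
  have hzero : (Finset.univ.filter fun e => π e = π 0).card = 1 := by
    rw [Finset.card_eq_one]
    refine ⟨0, ?_⟩
    ext e
    rw [Finset.mem_filter, Finset.mem_singleton]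
    constructor
    · rintro ⟨-, he⟩
      have h2 : e ∈ MulAction.orbit D (0 : E) := MulAction.orbitRel_apply.1 (Quotient.exact he)
      obtain ⟨d, hd⟩ := h2
      rw [← hd]
      exact smul_zero d
    · rintro rfl
      exact ⟨Finset.mem_univ _, rfl⟩
  have h1 : Fintype.card E = ∑ q : MulAction.orbitRel.Quotient D E, (Finset.univ.filter fun e => π e = q).card := by
    rw [← Finset.card_univ]
    exact Finset.card_eq_sum_card_fiberwise fun x _ => Finset.mem_coe.2 (Finset.mem_univ _)
  rw [Nat.card_eq_fintype_card, h1, ← Finset.add_sum_erase _ _ (Finset.mem_univ (π 0)), hzero, add_comm]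
  apply Nat.add_le_add_right
  refine (Finset.sum_le_card_nsmul _ _ (Nat.card D) fun q _ => hfib q).trans ?_
  rw [smul_eq_mul, Finset.card_erase_of_mem (Finset.mem_univ _), Finset.card_univ, orb,
    Nat.card_eq_fintype_card (α := MulAction.orbitRel.Quotient D E)]

/-- the linear map of an element -/
def lmap (hlin : ∀ (d : D) (c : F) (e : E), d • (c • e) = c • (d • e)) (d : D) : E →ₗ[F] E where
  toFun e := d • e
  map_add' := smul_add d
  map_smul' c e := hlin d c e

theorem lmap_mul (hlin : ∀ (d : D) (c : F) (e : E), d • (c • e) = c • (d • e)) (a b : D) :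
    lmap hlin (a * b) = lmap hlin a * lmap hlin b := by
  ext e
  exact mul_smul a b e

theorem lmap_one (hlin : ∀ (d : D) (c : F) (e : E), d • (c • e) = c • (d • e)) :
    lmap hlin (1 : D) = 1 := by
  ext e
  exact one_smul D e

/-- a scalar element is central -/
theorem central (hlin : ∀ (d : D) (c : F) (e : E), d • (c • e) = c • (d • e)) {a : D} (ha : a ∈ AF D E F) (g : D) :
    a * g = g * a := by
  obtain ⟨c, hc⟩ := ha
  apply FaithfulSMul.eq_of_smul_eq_smul (α := E)
  intro e
  rw [mul_smul, mul_smul, hc, hc, hlin]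

/-- conjugation by a scalar factor: the factor is trivial if `o(x)` is prime to the dimension -/
theorem eq_one_of_conj (hlin : ∀ (d : D) (c : F) (e : E), d • (c • e) = c • (d • e)) {a : D} (ha : a ∈ AF D E F)
    {g x : D} (h : g * x * g⁻¹ = a * x) {N : ℕ} (hN : x ^ N = 1) (hcop : N.Coprime (finrank F E)) : a = 1 := by
  have hfin : Module.Finite F E := Module.Finite.of_finite
  obtain ⟨c, hc⟩ := ha
  have haN : a ^ N = 1 := by
    have h1 : (a * x) ^ N = 1 := by rw [← h, conj_pow, hN, mul_one, mul_inv_cancel]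
    have h2 : Commute a x := central hlin ⟨c, hc⟩ x
    rwa [h2.mul_pow, hN, mul_one] at h1
  have hla : lmap hlin a = c • (1 : E →ₗ[F] E) := by
    ext e
    exact hc e
  have hpow : ∀ k : ℕ, lmap hlin (a ^ k) = c ^ k • (1 : E →ₗ[F] E) := by
    intro k
    induction k with
    | zero => rw [pow_zero, pow_zero, one_smul, lmap_one]
    | succ k ih => rw [pow_succ, lmap_mul, ih, hla, smul_mul_assoc, mul_smul_comm, smul_smul, one_mul, pow_succ]
  obtain ⟨v, hv⟩ := exists_ne (0 : E)
  have hcN : c ^ N = 1 := by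
    have h1 := hpow N
    rw [haN, lmap_one] at h1
    have h2 := LinearMap.congr_fun h1 v
    have h3 : (c ^ N - 1) • v = 0 := by
      rw [sub_smul, one_smul, sub_eq_zero]
      exact h2.symm
    exact sub_eq_zero.1 ((smul_eq_zero.1 h3).resolve_right hv)
  have hdet : c ^ finrank F E = 1 := by
    have h1 : lmap hlin g * lmap hlin x = c • (lmap hlin x * lmap hlin g) := by
      have h2 : g * x = a * (x * g) := by rw [← mul_assoc, ← h]; group
      rw [← lmap_mul, h2, lmap_mul, hla, lmap_mul, smul_mul_assoc, one_mul]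
    have h2 := congrArg LinearMap.det h1
    rw [LinearMap.det_smul, map_mul, map_mul, mul_comm (LinearMap.det (lmap hlin x))] at h2
    have h3 : ∀ g : D, LinearMap.det (lmap hlin g) ≠ 0 := by
      intro g h0
      have h4 : LinearMap.det (lmap hlin g * lmap hlin g⁻¹) = 1 := by
        rw [← lmap_mul, mul_inv_cancel, lmap_one, map_one]
      rw [map_mul, h0, zero_mul] at h4
      exact zero_ne_one h4
    exact (mul_right_cancel₀ (mul_ne_zero (h3 g) (h3 x)) (by rw [one_mul]; exact h2)).symm
  have hc1 : c = 1 := by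
    have h1 : orderOf c ∣ Nat.gcd N (finrank F E) :=
      Nat.dvd_gcd (orderOf_dvd_of_pow_eq_one hcN) (orderOf_dvd_of_pow_eq_one hdet)
    rw [hcop] at h1
    exact orderOf_eq_one_iff.1 (Nat.dvd_one.1 h1)
  apply FaithfulSMul.eq_of_smul_eq_smul (α := E)
  intro e
  rw [hc, hc1, one_smul, one_smul]

/-- an element of `r`-power order outside `A` -/
theorem exists_pelt (A : Subgroup D) {r : ℕ} (hr : r.Prime) (h : r ∣ A.index) :
    ∃ x : D, x ∉ A ∧ ∃ a : ℕ, x ^ r ^ a = 1 := by
  have := Fact.mk hr
  obtain ⟨P⟩ : Nonempty (Sylow r D) := inferInstance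
  by_contra hcon
  push Not at hcon
  have hle : (P : Subgroup D) ≤ A := by
    intro x hx
    by_contra hxA
    obtain ⟨a, ha⟩ := P.isPGroup' ⟨x, hx⟩
    exact hcon x hxA a (congrArg Subtype.val ha)
  exact P.not_dvd_index (h.trans (Subgroup.index_dvd_of_le hle))

/-- three classes for every scalar -/
theorem three_classes (hlin : ∀ (d : D) (c : F) (e : E), d • (c • e) = c • (d • e))
    (h15 : 15 ∣ (AF D E F).index) (h3 : (3 : ℕ).Coprime (finrank F E)) (h5 : (5 : ℕ).Coprime (finrank F E)) :
    3 * Nat.card (AF D E F) ≤ Nat.card (ConjClasses D) := by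
  classical
  obtain ⟨x, hx, i, hxi⟩ := exists_pelt (AF D E F) (r := 3) (by norm_num) (dvd_trans (by norm_num) h15)
  obtain ⟨y, hy, j, hyj⟩ := exists_pelt (AF D E F) (r := 5) (by norm_num) (dvd_trans (by norm_num) h15)
  have hcen := fun (a : D) (ha : a ∈ AF D E F) (g : D) => central hlin ha g
  have key : ∀ {a b g x : D}, a ∈ AF D E F → b ∈ AF D E F → g * (a * x) * g⁻¹ = b * x → ∀ N : ℕ, x ^ N = 1 →
      N.Coprime (finrank F E) → a = b := by
    intro a b g x ha hb h N hN hcop
    have h1 : g * x * g⁻¹ = a⁻¹ * b * x := by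
      calc g * x * g⁻¹ = a⁻¹ * (a * g * x * g⁻¹) := by group
        _ = a⁻¹ * (g * a * x * g⁻¹) := by rw [hcen a ha]
        _ = a⁻¹ * (g * (a * x) * g⁻¹) := by group
        _ = a⁻¹ * b * x := by rw [h]; group
    have h2 := eq_one_of_conj hlin (mul_mem (inv_mem ha) hb) h1 hN hcop
    rw [inv_mul_eq_one] at h2
    exact h2
  have hconj : ∀ {a g : D}, a ∈ AF D E F → g * a * g⁻¹ = a := by
    intro a g ha
    rw [← hcen a ha]; group
  let Φ : (AF D E F) × Fin 3 → ConjClasses D := fun z => ConjClasses.mk ((z.1 : D) * ![1, x, y] z.2)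
  have hΦ : Function.Injective Φ := by
    rintro ⟨⟨a, ha⟩, k⟩ ⟨⟨b, hb⟩, l⟩ hab
    have h1 : IsConj (a * ![1, x, y] k) (b * ![1, x, y] l) := ConjClasses.mk_eq_mk_iff_isConj.1 hab
    obtain ⟨g, hg⟩ := isConj_iff.1 h1
    -- the coset is determined
    have hout : ∀ {a b g u v : D}, a ∈ AF D E F → b ∈ AF D E F → g * (a * u) * g⁻¹ = b * v → ∀ {M N : ℕ},
        u ^ M = 1 → v ^ N = 1 → M.Coprime N → v ∈ AF D E F := by
      intro a b g u v ha hb h M N hM hN hcop
      have e1 : (b * v) ^ M = a ^ M := by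
        have h2 : Commute a u := hcen a ha u
        rw [← h, conj_pow, h2.mul_pow, hM, mul_one, hconj (pow_mem ha M)]
      have h2 : Commute b v := hcen b hb v
      rw [h2.mul_pow] at e1
      have e2 : v ^ M ∈ AF D E F := by
        have : v ^ M = (b ^ M)⁻¹ * a ^ M := by rw [← e1]; group
        rw [this]
        exact mul_mem (inv_mem (pow_mem hb M)) (pow_mem ha M)
      obtain ⟨s, t, hst⟩ : ∃ s t : ℤ, (M : ℤ) * s + N * t = 1 := by
        have h3 := Nat.gcd_eq_gcd_ab M N
        rw [hcop] at h3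
        exact ⟨_, _, by rw [← h3]; simp⟩
      have e3 : v = (v ^ M) ^ s := by
        calc v = v ^ ((M : ℤ) * s + N * t) := by rw [hst, zpow_one]
          _ = (v ^ M) ^ s * (v ^ N) ^ t := by rw [zpow_add, zpow_mul, zpow_mul, zpow_natCast, zpow_natCast]
          _ = (v ^ M) ^ s := by rw [hN, one_zpow, mul_one]
      rw [e3]
      exact zpow_mem e2 s
    have h35 : (3 ^ i).Coprime (5 ^ j) := Nat.Coprime.pow _ _ (by norm_num)
    have hg' : g⁻¹ * (b * ![1, x, y] l) * g⁻¹⁻¹ = a * ![1, x, y] k := by rw [← hg]; group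
    have hone : (1 : D) ^ 1 = 1 := one_pow 1
    have hk : k = l := by
      fin_cases k <;> fin_cases l
      all_goals first
        | rfl
        | exact absurd (hout ha hb hg hone hxi (Nat.coprime_one_left _)) hx
        | exact absurd (hout ha hb hg hone hyj (Nat.coprime_one_left _)) hy
        | exact absurd (hout hb ha hg' hone hxi (Nat.coprime_one_left _)) hx
        | exact absurd (hout hb ha hg' hone hyj (Nat.coprime_one_left _)) hy
        | exact absurd (hout ha hb hg hxi hyj h35) hy
        | exact absurd (hout hb ha hg' hxi hyj h35) hy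
    subst hk
    have hab' : a = b := by
      fin_cases k
      · exact key (x := 1) ha hb hg 1 hone (Nat.coprime_one_left _)
      · exact key ha hb hg _ hxi (Nat.Coprime.pow_left _ h3)
      · exact key ha hb hg _ hyj (Nat.Coprime.pow_left _ h5)
    subst hab'
    rfl
  have h1 := Nat.card_le_card_of_injective Φ hΦ
  rw [Nat.card_prod, Nat.card_eq_fintype_card (α := Fin 3), Fintype.card_fin] at h1
  omega

/-- dimension two: the order modulo scalars is sixty -/
theorem index_two (hlin : ∀ (d : D) (c : F) (e : E), d • (c • e) = c • (d • e)) {p : ℕ} (hp : p.Prime) [CharP F p]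
    (hcop : ¬ p ∣ Nat.card D) (hm : finrank F E = 2) {K : Subgroup D} (hK : IsComponent K) :
    (AF D E F).index = 60 := by
  have := Fact.mk hp
  obtain ⟨Z, hZn, hZ, hcases⟩ := H717.Dickson.cases (K := F) p (D := D) (E := E) hm hlin hcop
  have hZA : Z = AF D E F := by
    ext d
    exact hZ d
  have hns : ¬ Group.IsSolvable D := fun h =>
    Lib.ComponentSolvable.quasisimple_not_solvable hK.2 inferInstance
  have hZs : Group.IsSolvable Z := Group.isSolvable_of_comm fun a b => Subtype.ext (by
    have h1 : (a : D) ∈ AF D E F := by rw [← hZA]; exact a.2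
    exact central hlin h1 b)
  have hq : ∀ {N : Subgroup D} [N.Normal], Group.IsSolvable N → ¬ Group.IsSolvable (D ⧸ N) := fun h1 h2 =>
    hns ((Group.isSolvable_iff_subgroup_quotient _).2 ⟨h1, h2⟩)
  rw [← hZA]
  have h4 := H76.PermFour.solvable_perm_four
  rcases hcases with ⟨B, hBn, hBc, hBi, -⟩ | ⟨⟨g⟩⟩ | ⟨⟨g⟩⟩ | ⟨⟨g⟩⟩
  · exfalso
    refine hq (N := B) (Group.isSolvable_of_comm fun a b => Subtype.ext (hBc a a.2 b b.2)) ?_
    have h3 : Nat.card (D ⧸ B) ∣ 2 := hBi
    apply Group.isSolvable_of_comm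
    rcases (Nat.dvd_prime Nat.prime_two).1 h3 with h5 | h5
    · have := (Nat.card_eq_one_iff_unique.1 h5).1
      exact fun u v => Subsingleton.elim _ _
    · have : Fact (Nat.Prime 2) := ⟨Nat.prime_two⟩
      have hcyc : IsCyclic (D ⧸ B) := isCyclic_of_prime_card h5
      exact fun u v => (IsCyclic.commGroup (α := D ⧸ B)).mul_comm u v
  · exfalso
    exact hq hZs (Group.isSolvable_of_isSolvable_injective g.injective (f := g.toMonoidHom))
  · exfalso
    exact hq hZs (Group.isSolvable_of_isSolvable_injective g.injective (f := g.toMonoidHom))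
  · change Nat.card (D ⧸ Z) = 60
    rw [Nat.card_congr g.toEquiv, nat_card_alternatingGroup, Nat.card_eq_fintype_card, Fintype.card_fin]
    decide

/-- **T12.** Dimensions two and four over the prime field. -/
theorem ps_small {p m : ℕ} (hp : p.Prime) (h23 : 23 ≤ p) (hpE : ∀ e : E, p • e = 0)
    (hcop : ¬ p ∣ Nat.card D) (hF : Nat.card F = p) (hm : finrank F E = m)
    (h : (m = 2 ∧ ∃ K : Subgroup D, IsComponent K) ∨
      (m = 4 ∧ (AF D E F).index ≤ 28800 ∧ 15 ∣ (AF D E F).index)) :
    p - 1 < orb D E * Nat.card (ConjClasses D) := by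
  have hlin := fun d c e => lin_of_prime (D := D) (E := E) (F := F) hp hF d c e
  have := Fact.mk hp
  have hchar : CharP F p := by
    have := Fintype.ofFinite F
    rw [Nat.card_eq_fintype_card] at hF
    exact charP_of_card_eq_prime hF
  have hcard : Nat.card E = p ^ m := by
    have h1 := Module.natCard_eq_pow_finrank (K := F) (V := E)
    rw [h1, hF, hm]
  have hle := card_le_orb (D := D) (E := E)
  have hAi := (AF D E F).card_mul_index
  have hbound : 15 ∣ (AF D E F).index ∧ (AF D E F).index * (p - 1) + 1 ≤ 3 * (p ^ m - 1) ∧ (m = 2 ∨ m = 4) := by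
    rcases h with ⟨rfl, K, hK⟩ | ⟨rfl, h1, h2⟩
    · have h1 := index_two hlin hp hcop hm hK
      rw [h1]
      refine ⟨by norm_num, ?_, Or.inl rfl⟩
      obtain ⟨q, rfl⟩ : ∃ q, p = q + 1 := ⟨p - 1, by omega⟩
      have e : (q + 1) ^ 2 - 1 = q * q + 2 * q := by
        have : (q + 1) ^ 2 = q * q + 2 * q + 1 := by ring
        omega
      rw [e]
      have h3 : 22 ≤ q := by omega
      have h4 : 22 * q ≤ q * q := Nat.mul_le_mul_right _ h3
      rw [Nat.add_sub_cancel]
      omega
    · refine ⟨h2, ?_, Or.inr rfl⟩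
      obtain ⟨q, rfl⟩ : ∃ q, p = q + 1 := ⟨p - 1, by omega⟩
      have e : (q + 1) ^ 4 - 1 = q * (q * q * q + 4 * (q * q) + 6 * q + 4) := by
        have : (q + 1) ^ 4 = q * (q * q * q + 4 * (q * q) + 6 * q + 4) + 1 := by ring
        omega
      rw [e, Nat.add_sub_cancel]
      have h3 : 22 ≤ q := by omega
      have h4 : 22 * 22 ≤ q * q := Nat.mul_le_mul h3 h3
      have h5 : 22 * 22 * 22 ≤ q * q * q := Nat.mul_le_mul h4 h3
      have h6 : (AF D E F).index * q ≤ 28800 * q := Nat.mul_le_mul_right _ h1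
      have h7 : 12716 ≤ q * q * q + 4 * (q * q) + 6 * q + 4 := by omega
      have h8 : q * 12716 ≤ q * (q * q * q + 4 * (q * q) + 6 * q + 4) := Nat.mul_le_mul_left _ h7
      omega
  obtain ⟨h15, hb, hm24⟩ := hbound
  have h3 := three_classes hlin h15 (by rw [hm]; rcases hm24 with rfl | rfl <;> decide)
    (by rw [hm]; rcases hm24 with rfl | rfl <;> decide)
  -- the computation
  obtain ⟨z, hz⟩ : ∃ z, z = Nat.card (AF D E F) := ⟨_, rfl⟩
  obtain ⟨b, hbb⟩ : ∃ b, b = (AF D E F).index := ⟨_, rfl⟩
  obtain ⟨r, hr⟩ : ∃ r, r = orb D E := ⟨_, rfl⟩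
  obtain ⟨k, hk⟩ : ∃ k, k = Nat.card (ConjClasses D) := ⟨_, rfl⟩
  rw [← hz, ← hbb] at hAi
  rw [← hz, ← hk] at h3
  rw [← hbb] at hb
  rw [← hr, ← hAi, hcard] at hle
  rw [← hr, ← hk]
  by_contra hcon
  push Not at hcon
  have h5 : p ^ m - 1 ≤ r * (z * b) := by omega
  have h6 : 3 * (p ^ m - 1) ≤ b * (p - 1) := by
    calc 3 * (p ^ m - 1) ≤ 3 * (r * (z * b)) := Nat.mul_le_mul_left _ h5
      _ = b * (r * (3 * z)) := by ring
      _ ≤ b * (r * k) := Nat.mul_le_mul_left _ (Nat.mul_le_mul_left _ h3)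
      _ ≤ b * (p - 1) := Nat.mul_le_mul_left _ hcon
  omega

end A

end Cfsg.Agent.H930.Alm
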